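import Mathlib.RingTheory.Kaehler.Basic
import Mathlib.LinearAlgebra.TensorProduct.Associator

/-!
# Linear maps out of `A ⊗ A` satisfying the Leibniz relations factor through one-forms

A `k`-linear map `φ : A ⊗ A → Q` into an arbitrary `k`-module with
`φ (a ⊗ bc) = φ (ab ⊗ c) + φ (ac ⊗ b)` factors through `a ⊗ b ↦ a db`.
-/

universe u v w

open TensorProduct

namespace GrothLib.DiagForms

variable (k : Type u) [CommRing k] (A : Type v) [CommRing A] [Algebra k A]

/-- `a ⊗ b ↦ a db`. -/
noncomputable def forms : A ⊗[k] A →ₗ[k] Ω[A⁄k] :=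
  TensorProduct.lift (LinearMap.mk₂ k (fun a b : A => a • KaehlerDifferential.D k A b)
    (fun a a' b => add_smul a a' _) (fun c a b => smul_assoc c a _)
    (fun a b b' => by rw [map_add, smul_add])
    (fun c a b => by rw [Derivation.map_smul, smul_comm]))

@[simp]
lemma forms_tmul (a b : A) : forms k A (a ⊗ₜ[k] b) = a • KaehlerDifferential.D k A b := by
  simp [forms]

lemma forms_surjective : Function.Surjective (forms k A) := by
  rw [← LinearMap.range_eq_top]
  have key : ∀ (a : A), ∀ y ∈ LinearMap.range (forms k A), a • y ∈ LinearMap.range (forms k A) := by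
    rintro a _ ⟨z, rfl⟩
    induction z using TensorProduct.induction_on with
    | zero => rw [map_zero, smul_zero]; exact Submodule.zero_mem _
    | tmul x y => exact ⟨(a * x) ⊗ₜ y, by rw [forms_tmul, forms_tmul, mul_smul]⟩
    | add x y hx hy => rw [map_add, smul_add]; exact Submodule.add_mem _ hx hy
  let N : Submodule A Ω[A⁄k] :=
    { carrier := LinearMap.range (forms k A)
      add_mem' := fun h h' => Submodule.add_mem _ h h'
      zero_mem' := Submodule.zero_mem _
      smul_mem' := key }
  have hN : N = ⊤ := by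
    rw [eq_top_iff, ← KaehlerDifferential.span_range_derivation, Submodule.span_le]
    rintro _ ⟨b, rfl⟩
    exact ⟨1 ⊗ₜ b, by rw [forms_tmul, one_smul]⟩
  refine eq_top_iff.2 fun x _ => ?_
  have hx : x ∈ N := hN ▸ Submodule.mem_top
  exact hx

variable (Q : Type w) [AddCommGroup Q] [Module k Q]

/-- `A →ₗ[k] Q` as an `A`-module through precomposition with multiplication. -/
def Pre : Type max v w := A →ₗ[k] Q

noncomputable instance : AddCommGroup (Pre k A Q) := inferInstanceAs (AddCommGroup (A →ₗ[k] Q))

noncomputable instance : Module k (Pre k A Q) := inferInstanceAs (Module k (A →ₗ[k] Q))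

instance : FunLike (Pre k A Q) A Q := inferInstanceAs (FunLike (A →ₗ[k] Q) A Q)

instance : LinearMapClass (Pre k A Q) k A Q :=
  inferInstanceAs (LinearMapClass (A →ₗ[k] Q) k A Q)

variable {k A Q} in
@[ext]
lemma Pre.ext {f g : Pre k A Q} (h : ∀ a, f a = g a) : f = g := LinearMap.ext h

variable {k A Q} in
@[simp] lemma Pre.add_apply (f g : Pre k A Q) (a : A) : (f + g) a = f a + g a := rfl

variable {k A Q} in
@[simp] lemma Pre.zero_apply (a : A) : (0 : Pre k A Q) a = 0 := rfl

noncomputable instance : Module A (Pre k A Q) where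
  smul c f := LinearMap.comp (f : A →ₗ[k] Q) (LinearMap.mulLeft k c)
  one_smul f := Pre.ext fun a => congrArg (fun x => f x) (one_mul a)
  mul_smul c d f := Pre.ext fun a =>
    congrArg (fun x => f x) (show c * d * a = d * (c * a) by ring)
  smul_zero c := Pre.ext fun _ => rfl
  smul_add c f g := Pre.ext fun _ => rfl
  add_smul c d f := Pre.ext fun a =>
    (congrArg (fun x => f x) (add_mul c d a)).trans (map_add f _ _)
  zero_smul f := Pre.ext fun a =>
    (congrArg (fun x => f x) (zero_mul a)).trans (map_zero f)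

variable {k A Q} in
lemma Pre.smul_apply (c : A) (f : Pre k A Q) (a : A) : (c • f) a = f (c * a) := rfl

noncomputable instance : IsScalarTower k A (Pre k A Q) where
  smul_assoc t c f := Pre.ext fun a => by
    change f (t • c * a) = t • f (c * a)
    rw [smul_mul_assoc, map_smul]

variable {k A Q}

/-- A map with the Leibniz relations kills the kernel of `a ⊗ b ↦ a db`. -/
theorem eq_zero_of_leibniz (φ : A ⊗[k] A →ₗ[k] Q)
    (hφ : ∀ a b c : A, φ (a ⊗ₜ (b * c)) = φ ((a * b) ⊗ₜ c) + φ ((a * c) ⊗ₜ b))
    {y : A ⊗[k] A} (hy : forms k A y = 0) : φ y = 0 := by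
  have hlin : ∀ t : k, ∀ a b : A, φ (a ⊗ₜ (t • b)) = t • φ (a ⊗ₜ b) := fun t a b => by
    rw [tmul_smul, map_smul]
  let d₀ : A →ₗ[k] Pre k A Q :=
    { toFun := fun b => φ.comp ((TensorProduct.mk k A A).flip b)
      map_add' := fun b b' => LinearMap.ext fun a =>
        show φ (a ⊗ₜ (b + b')) = φ (a ⊗ₜ b) + φ (a ⊗ₜ b') by rw [tmul_add, map_add]
      map_smul' := fun t b => LinearMap.ext fun a => hlin t a b }
  let d : Derivation k A (Pre k A Q) := Derivation.mk' d₀ fun b c => Pre.ext fun a => by
    change φ (a ⊗ₜ (b * c)) = φ ((b * a) ⊗ₜ c) + φ ((c * a) ⊗ₜ b)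
    rw [hφ, mul_comm a b, mul_comm a c]
  let g := d.liftKaehlerDifferential
  have key : ∀ z : A ⊗[k] A, φ z = g (forms k A z) 1 := by
    intro z
    induction z using TensorProduct.induction_on with
    | zero => simp only [map_zero]; rfl
    | tmul a b =>
      rw [forms_tmul, map_smul]
      change φ (a ⊗ₜ b) = g (KaehlerDifferential.D k A b) (a * 1)
      rw [show g (KaehlerDifferential.D k A b) = d b from Derivation.liftKaehlerDifferential_comp_D d b,
        mul_one]
      rfl
    | add x x' hx hx' => rw [map_add, map_add, map_add, hx, hx']; rfl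
  rw [key, hy, map_zero]
  rfl

end GrothLib.DiagForms
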